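import Cfsg.Agent.Spor.Rua.L.D0

set_option autoImplicit false
set_option maxRecDepth 100000000
set_option Elab.async false

namespace Cfsg.Agent.Spor.Rua.L

theorem gr4 : sub M3 (U.growI W1 [0, 1, 3, 4, 4, 3, 2, 1, 0, 3, 4, 4, 3, 2, 1, 0, 3, 4, 4, 3, 2, 1, 0, 1, 2, 3, 4, 4, 3, 2] (Nat.shiftLeft 1 0)) = true := by decide +kernel

theorem cl6 : band (U.closedW W1 M3) (sub (Nat.shiftLeft 1 0) M3) = true := by decide +kernel

theorem sz7 : sizeOk 12 M3 4060 = true := by decide +kernel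

theorem fx10 : U.closedW W9 (Nat.shiftLeft 1 0) = true := by decide +kernel

theorem gr12 : sub M11 (U.growI W9 [0, 2, 3, 3, 2, 1, 0, 1, 2, 3, 3, 2, 1, 0, 1, 2, 3, 3, 2, 1, 0, 1, 2, 3, 3, 2, 1, 0] (Nat.shiftLeft 1 1)) = true := by decide +kernel

theorem cl14 : band (U.closedW W9 M11) (sub (Nat.shiftLeft 1 1) M11) = true := by decide +kernel

theorem sz15 : sizeOk 12 M11 1755 = true := by decide +kernel

theorem fx18 : U.closedW W17 (Nat.shiftLeft 1 1) = true := by decide +kernel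

theorem uok5 : Net.okb 12 un5 = true := by decide +kernel

theorem rel19 : U.rel 12 [11, 5, 5, 5, 9, 9, 9, 9, 5, 9, 5, 9, 7, 9, 7, 7, 7] 0 12 = true := by decide +kernel

theorem uok6 : Net.okb 12 un6 = true := by decide +kernel

theorem rel20 : U.rel 12 [13, 9, 7, 9, 9, 5, 5, 9, 9, 9, 7, 7, 7] 0 12 = true := by decide +kernel

theorem gr22 : sub M21 (U.growI W17 [0, 1, 2, 2, 1, 0, 0, 1, 2, 2, 1, 0, 0, 1, 2, 2, 1] (Nat.shiftLeft 1 860)) = true := by decide +kernel

theorem cl24 : band (U.closedW W17 M21) (sub (Nat.shiftLeft 1 860) M21) = true := by decide +kernel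

theorem sz25 : sizeOk 12 M21 1280 = true := by decide +kernel

theorem fx28 : U.closedW W27 (Nat.shiftLeft 1 860) = true := by decide +kernel

theorem gr30 : sub M29 (U.growI W27 [0, 1, 0, 0, 1, 0, 0] (Nat.shiftLeft 1 8)) = true := by decide +kernel

theorem cl32 : band (U.closedW W27 M29) (sub (Nat.shiftLeft 1 8) M29) = true := by decide +kernel

theorem sz33 : sizeOk 12 M29 16 = true := by decide +kernel

end Cfsg.Agent.Spor.Rua.L
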