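import Cfsg.Agent.Spor.Prim
import Cfsg.Agent.Spor.Rua.Main
import Cfsg.Agent.Spor.Rua.L.C0
import Cfsg.Agent.Spor.TT2

set_option autoImplicit false
set_option maxRecDepth 100000000
set_option Elab.async false

namespace Cfsg.Agent.Spor.Rua.L

theorem hU : U.Ok 12 := U.ok_of 12 (show AllP (fun n => Net.okb 12 n = true) [n0, n1, n2, n3, n4, un5, un6] from AllP.cons ok0 (AllP.cons ok1 (AllP.cons ok2 (AllP.cons ok3 (AllP.cons ok4 (AllP.cons uok5 (AllP.cons uok6 (AllP.nil))))))))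

theorem hfP : ∀ j < 5, U.fP [1, 3, 5, 7, 9] j = fP j := by
  intro j hj
  interval_cases j <;> rfl
theorem eG : gsub 5 fP = U.lsub W1 := (gsub_congr hfP).symm.trans (lsub_eq_gsub U [1, 3, 5, 7, 9])
theorem upz1 : ev (atm 5 fP) [0] = U.τ 1 := pz1
theorem upz3 : ev (atm 5 fP) [2] = U.τ 3 := pz2
theorem upz5 : ev (atm 5 fP) [4] = U.τ 5 := pz3
theorem upz7 : ev (atm 5 fP) [6] = U.τ 7 := pz4
theorem upz9 : ev (atm 5 fP) [8] = U.τ 9 := pz5
theorem eH : wsub 5 fP BW = U.lsub W2 :=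
  lsub_eq_of_all₂ (show List.Forall₂ _ [[2], [6], [8]] [[3], [7], [9]] from List.Forall₂.cons (upz3.trans (one_mul _).symm) (List.Forall₂.cons (upz7.trans (one_mul _).symm) (List.Forall₂.cons (upz9.trans (one_mul _).symm) (List.Forall₂.nil))))
theorem vpz1 : PZ U (atm 5 fP) EXU 1 := pz1
theorem vpz2 : PZ U (atm 5 fP) EXU 2 := PZ.of_inv hiv vpz1 (by decide +kernel)
theorem vpz3 : PZ U (atm 5 fP) EXU 3 := pz2
theorem vpz4 : PZ U (atm 5 fP) EXU 4 := PZ.of_inv hiv vpz3 (by decide +kernel)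
theorem vpz5 : PZ U (atm 5 fP) EXU 5 := pz3
theorem vpz6 : PZ U (atm 5 fP) EXU 6 := PZ.of_inv hiv vpz5 (by decide +kernel)
theorem vpz7 : PZ U (atm 5 fP) EXU 7 := pz4
theorem vpz8 : PZ U (atm 5 fP) EXU 8 := PZ.of_inv hiv vpz7 (by decide +kernel)
theorem vpz9 : PZ U (atm 5 fP) EXU 9 := pz5
theorem vpz10 : PZ U (atm 5 fP) EXU 10 := PZ.of_inv hiv vpz9 (by decide +kernel)
theorem hPZU : AllP (PZ U (atm 5 fP) EXU) LU :=
  show AllP (PZ U (atm 5 fP) EXU) [1, 2, 3, 4, 5, 6, 7, 8, 9, 10] from AllP.cons vpz1 (AllP.cons vpz2 (AllP.cons vpz3 (AllP.cons vpz4 (AllP.cons vpz5 (AllP.cons vpz6 (AllP.cons vpz7 (AllP.cons vpz8 (AllP.cons vpz9 (AllP.cons vpz10 (AllP.nil))))))))))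
theorem reach5 : Reach (U.lsub W1) 0 M3 := (Reach.grow hU (Reach.base _ 0) gr4)
theorem orb8 : (orbS (U.lsub W1) 0).ncard = 4060 := reach5.ncard hU cl6 sz7
theorem orb8e : orbS (U.lsub W1) 0 = {c | Nat.testBit M3 c = true} := reach5.orb hU cl6
theorem reach13 : Reach (U.lsub W9) 1 M11 := (Reach.grow hU (Reach.base _ 1) gr12)
theorem orb16 : (orbS (U.lsub W9) 1).ncard = 1755 := reach13.ncard hU cl14 sz15
theorem orb16e : orbS (U.lsub W9) 1 = {c | Nat.testBit M11 c = true} := reach13.orb hU cl14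
theorem reach23 : Reach (U.lsub W17) 860 M21 := (Reach.grow hU (Reach.base _ 860) gr22)
theorem orb26 : (orbS (U.lsub W17) 860).ncard = 1280 := reach23.ncard hU cl24 sz25
theorem orb26e : orbS (U.lsub W17) 860 = {c | Nat.testBit M21 c = true} := reach23.orb hU cl24
theorem reach31 : Reach (U.lsub W27) 8 M29 := (Reach.grow hU (Reach.base _ 8) gr30)
theorem orb34 : (orbS (U.lsub W27) 8).ncard = 16 := reach31.ncard hU cl32 sz33
theorem orb34e : orbS (U.lsub W27) 8 = {c | Nat.testBit M29 c = true} := reach31.orb hU cl32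
theorem lb35 : 16 ∣ Nat.card (U.lsub W27) := dvd_card_orb orb34
theorem lb36 : 20480 ∣ Nat.card (U.lsub W17) :=
  dvd_card_step (s := 1280) (M := 16) (B := U.lsub W27) (Tab.lsub_le_all (AllP.cons (mem_of_rel (hU.one rel19) (U.mem_letters (by decide))) (AllP.cons (mem_of_rel (hU.one rel20) (U.mem_letters (by decide))) (AllP.nil)))) (hU.fixes fx28) orb26 lb35
theorem lb37 : 35942400 ∣ Nat.card (U.lsub W9) :=
  dvd_card_step (s := 1755) (M := 20480) (B := U.lsub W17) (U.lsub_sub (by decide)) (hU.fixes fx18) orb16 lb36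
theorem lb : 145926144000 ∣ Nat.card (U.lsub W1) :=
  dvd_card_step (s := 4060) (M := 35942400) (B := U.lsub W9) (U.lsub_sub (by decide)) (hU.fixes fx10) orb8 lb37

end Cfsg.Agent.Spor.Rua.L
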